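import Cfsg.Agent.J3Type.CharTools
import Cfsg.Agent.S4665

/-!
# S4879 (H2): a generalized character with values in `{0, p}` only, if all `p`-elements `≠ 1` are conjugate and `|P| = p ^ 2`

* `gen v g = ∑ v(χ) χ(g)`; `gen_pow_congr` : `gen v g ^ l = gen v (g ^ l) mod l`;
* `gen_pow` : values in `{0, p}` are constant on `g ^ m`, `m` prime to `p`;
* `false_of_vals` : then `p` divides `v(1_G)`.
-/

set_option autoImplicit false

open Cfsg

namespace Cfsg.Agent.H261.LB

open Cfsg.Agent.J3Type.CharTools Cfsg.Agent.Blocks.Basic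

universe u

variable {G : Type u} [Group G] [Finite G] [Fintype (IrrCharacter G)]

/-- the generalized character with coefficients `v` -/
noncomputable def gen (v : IrrCharacter G → ℤ) (g : G) : ℂ := ∑ χ, (v χ : ℂ) * (χ : G → ℂ) g

theorem gen_pow_congr (v : IrrCharacter G → ℤ) (g : G) {l : ℕ} (hl : l.Prime) :
    ∃ β : ℂ, IsIntegral ℤ β ∧ gen v g ^ l = gen v (g ^ l) + l * β := by
  have hint : ∀ (χ : IrrCharacter G) (g : G), IsIntegral ℤ ((χ : G → ℂ) g) := fun χ g =>
    Characters.GaloisBasic.isIntegral_apply (irr_isCharacter χ.2) g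
  obtain ⟨β, hβ, e⟩ := sum_pow_prime Finset.univ (fun χ : IrrCharacter G => (v χ : ℂ) * (χ : G → ℂ) g)
    (fun χ => (isIntegral_int _).mul (hint χ g)) hl
  have h : ∀ χ : IrrCharacter G, ∃ γ : ℂ, IsIntegral ℤ γ ∧
      ((v χ : ℂ) * (χ : G → ℂ) g) ^ l = (v χ : ℂ) * (χ : G → ℂ) (g ^ l) + l * γ := by
    intro χ
    obtain ⟨γ, hγ, e1⟩ := pow_congr (irr_isCharacter χ.2) g hl
    obtain ⟨k, hk⟩ := int_pow_congr (v χ) hl
    have hk' : (v χ : ℂ) ^ l = v χ + l * k := by
      have : ((v χ ^ l - v χ : ℤ) : ℂ) = ((l * k : ℤ) : ℂ) := by rw [hk]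
      push_cast at this
      rw [← this]
      ring
    refine ⟨v χ * γ + k * ((χ : G → ℂ) (g ^ l)) + l * k * γ, ?_, ?_⟩
    · exact (((isIntegral_int _).mul hγ).add ((isIntegral_int _).mul (hint χ _))).add
        (((isIntegral_nat _).mul (isIntegral_int _)).mul hγ)
    · rw [mul_pow, e1, hk']
      ring
  choose γ hγ e' using h
  refine ⟨∑ χ, γ χ + β, (IsIntegral.sum _ fun χ _ => hγ χ).add hβ, ?_⟩
  unfold gen
  rw [e, Finset.sum_congr rfl fun χ _ => e' χ, Finset.sum_add_distrib, ← Finset.mul_sum]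
  ring

omit [Finite G] in
theorem gen_conj (v : IrrCharacter G → ℤ) {g g' : G} (h : IsConj g g') : gen v g = gen v g' :=
  Finset.sum_congr rfl fun χ _ => by rw [class_eq (irr_isCharacter χ.2) h]

variable {p : ℕ} [hp : Fact p.Prime]

theorem gen_prime {v : IrrCharacter G → ℤ} (h : ∀ g : G, gen v g = 0 ∨ gen v g = p) (g : G) {l : ℕ} (hl : l.Prime)
    (hlp : l ≠ p) : gen v (g ^ l) = gen v g := by
  obtain ⟨β, hβ, e⟩ := gen_pow_congr v g hl
  rcases h g with h1 | h1 <;> rcases h (g ^ l) with h2 | h2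
  · rw [h1, h2]
  · exfalso
    rw [h1, h2, zero_pow hl.ne_zero] at e
    have h3 : (((p : ℕ) : ℤ) : ℂ) = l * (-β) := by
      push_cast
      rw [mul_neg, eq_neg_iff_add_eq_zero]
      exact e.symm
    have h4 := dvd_of_integral hl.ne_zero hβ.neg h3
    exact hlp ((Nat.prime_dvd_prime_iff_eq hl hp.out).1 (by exact_mod_cast h4))
  · exfalso
    rw [h1, h2, zero_add] at e
    have h3 : (((p ^ l : ℕ) : ℤ) : ℂ) = l * β := by
      push_cast
      exact e
    have h4 := dvd_of_integral hl.ne_zero hβ h3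
    exact hlp ((Nat.prime_dvd_prime_iff_eq hl hp.out).1 (hl.dvd_of_dvd_pow (by exact_mod_cast h4)))
  · rw [h1, h2]

theorem gen_pow {v : IrrCharacter G → ℤ} (h : ∀ g : G, gen v g = 0 ∨ gen v g = p) :
    ∀ (m : ℕ) (g : G), m ≠ 0 → ¬ p ∣ m → gen v (g ^ m) = gen v g := by
  intro m
  induction m using Nat.strong_induction_on with
  | _ m ih =>
    intro g hm hpm
    by_cases h1 : m = 1
    · rw [h1, pow_one]
    have hl := Nat.minFac_prime h1
    obtain ⟨k, hk⟩ := Nat.minFac_dvd m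
    have hk0 : k ≠ 0 := by
      rintro rfl
      rw [mul_zero] at hk
      exact hm hk
    have hlt : k < m := by
      conv_rhs => rw [hk]
      have := hl.two_le
      have := Nat.pos_of_ne_zero hk0
      nlinarith
    have hlp : m.minFac ≠ p := by
      intro h2
      exact hpm (h2 ▸ Nat.minFac_dvd m)
    have hpk : ¬ p ∣ k := fun h2 => hpm (by
      rw [hk]
      exact Dvd.dvd.mul_left h2 _)
    have h2 : g ^ m = (g ^ m.minFac) ^ k := by
      rw [← pow_mul, ← hk]
    rw [h2, ih k hlt _ hk0 hpk, gen_prime h g hl hlp]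

/-- **(H2)** -/
theorem false_of_vals (P : Sylow p G) (hP : Nat.card P = p ^ 2)
    (hconj : ∀ x y : G, x ≠ 1 → y ≠ 1 → (∃ k : ℕ, orderOf x = p ^ k) → (∃ k : ℕ, orderOf y = p ^ k) → IsConj x y)
    (v : IrrCharacter G → ℤ) (hv : ¬ (p : ℤ) ∣ v (⟨fun _ => 1, isIrrCharacter_one⟩ : IrrCharacter G))
    (h : ∀ g : G, ∑ χ, (v χ : ℂ) * (χ : G → ℂ) g = 0 ∨ ∑ χ, (v χ : ℂ) * (χ : G → ℂ) g = p) : False := by
  classical
  have := Fintype.ofFinite G
  have h' : ∀ g : G, gen v g = 0 ∨ gen v g = p := h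
  have hp1 := hp.out.one_lt
  have hpos : 0 < p := hp.out.pos
  -- a `p`-element
  have hne : (P : Subgroup G) ≠ ⊥ := by
    intro h0
    have h1 : Nat.card P = 1 := by
      rw [h0, Subgroup.card_bot]
    rw [hP] at h1
    nlinarith
  obtain ⟨⟨x, hxP⟩, hx1'⟩ := Subgroup.ne_bot_iff_exists_ne_one.1 hne
  have hx1 : x ≠ 1 := fun h0 => hx1' (Subtype.ext h0)
  have hPp : ∀ y ∈ (P : Subgroup G), ∃ k : ℕ, orderOf y = p ^ k := by
    intro y hy
    obtain ⟨k, hk⟩ := (IsPGroup.iff_orderOf.mp P.2) ⟨y, hy⟩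
    exact ⟨k, by rw [← hk, ← Subgroup.orderOf_coe]⟩
  have hval : ∀ y ∈ (P : Subgroup G), y ≠ 1 → gen v y = gen v x := fun y hy hy1 =>
    gen_conj v (hconj y x hy1 hx1 (hPp y hy) (hPp x hxP))
  -- the sum over `P`
  have hsum : ∃ n : ℤ, gen v 1 + ((p : ℂ) ^ 2 - 1) * gen v x = (p : ℂ) ^ 2 * n := by
    have h1 : ∀ χ : IrrCharacter G, ∃ n : ℕ, ∑ y : (P : Subgroup G), (χ : G → ℂ) y = (Nat.card (P : Subgroup G) : ℂ) * n :=
      fun χ => S4665.sum_subgroup _ χ
    choose n hn using h1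
    refine ⟨∑ χ, v χ * n χ, ?_⟩
    have h2 : ∑ y : (P : Subgroup G), gen v (y : G) = (p : ℂ) ^ 2 * ((∑ χ, v χ * n χ : ℤ) : ℂ) := by
      unfold gen
      rw [Finset.sum_comm]
      push_cast
      rw [Finset.mul_sum]
      refine Finset.sum_congr rfl fun χ _ => ?_
      rw [← Finset.mul_sum, hn]
      have h3 : (Nat.card (P : Subgroup G) : ℂ) = (p : ℂ) ^ 2 := by
        have : Nat.card (P : Subgroup G) = p ^ 2 := hP
        rw [this]
        push_cast
        rfl
      rw [h3]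
      ring
    have h4 : ∀ y ∈ (Finset.univ : Finset (P : Subgroup G)).erase 1, gen v (y : G) = gen v x := fun y hy =>
      hval _ y.2 fun h0 => (Finset.mem_erase.1 hy).1 (Subtype.ext h0)
    rw [← h2, ← Finset.add_sum_erase Finset.univ _ (Finset.mem_univ (1 : (P : Subgroup G))),
      Finset.sum_congr rfl h4, Finset.sum_const,
      Finset.card_erase_of_mem (Finset.mem_univ _), Finset.card_univ, ← Nat.card_eq_fintype_card]
    have h3 : Nat.card (P : Subgroup G) = p ^ 2 := hP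
    rw [h3, nsmul_eq_mul, Nat.cast_sub (Nat.one_le_pow _ _ hpos)]
    push_cast
    rfl
  -- `gen v` is constant
  have h1x : gen v 1 = gen v x := by
    obtain ⟨n, hn⟩ := hsum
    rcases h' 1 with h1 | h1 <;> rcases h' x with h2 | h2
    · rw [h1, h2]
    · exfalso
      rw [h1, h2, zero_add] at hn
      have h3 : ((p : ℤ) ^ 2 - 1) * p = (p : ℤ) ^ 2 * n := by exact_mod_cast hn
      have hp0 : (p : ℤ) ≠ 0 := by exact_mod_cast hp.out.ne_zero
      have h4 : ((p : ℤ) ^ 2 - 1) = p * n := by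
        refine mul_right_cancel₀ hp0 ?_
        rw [h3]
        ring
      have h5 : (p : ℤ) ∣ 1 := ⟨p - n, by linear_combination (-1 : ℤ) * h4⟩
      have h6 : p ∣ 1 := by exact_mod_cast h5
      exact hp1.ne' (Nat.dvd_one.1 h6)
    · exfalso
      rw [h1, h2, mul_zero, add_zero] at hn
      have h3 : (p : ℤ) = (p : ℤ) ^ 2 * n := by exact_mod_cast hn
      have hp0 : (p : ℤ) ≠ 0 := by exact_mod_cast hp.out.ne_zero
      have h4 : (1 : ℤ) = p * n := by
        refine mul_right_cancel₀ hp0 ?_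
        rw [one_mul]
        conv_lhs => rw [h3]
        ring
      have h6 : p ∣ 1 := by
        have : (p : ℤ) ∣ 1 := ⟨n, h4⟩
        exact_mod_cast this
      exact hp1.ne' (Nat.dvd_one.1 h6)
    · rw [h1, h2]
  have hconst : ∀ g : G, gen v g = gen v 1 := by
    intro g
    obtain ⟨a, m, hm, hgm⟩ := Nat.exists_eq_pow_mul_and_not_dvd (orderOf_pos g).ne' p hp.out.ne_one
    have hm0 : m ≠ 0 := by
      rintro rfl
      exact hm (dvd_zero p)
    rw [← gen_pow h' m g hm0 hm]
    by_cases h1 : g ^ m = 1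
    · rw [h1]
    · rw [h1x]
      refine gen_conj v (hconj _ x h1 hx1 ⟨a, ?_⟩ (hPp x hxP))
      rw [orderOf_pow_of_dvd hm0 (hgm ▸ dvd_mul_left m _), hgm, Nat.mul_div_cancel _ (Nat.pos_of_ne_zero hm0)]
  -- the coefficient of the trivial character
  have h1 : ∑ g : G, gen v g = (Nat.card G : ℂ) * v (⟨fun _ => 1, isIrrCharacter_one⟩ : IrrCharacter G) := by
    unfold gen
    rw [Finset.sum_comm, Finset.sum_eq_single (⟨fun _ => 1, isIrrCharacter_one⟩ : IrrCharacter G)]
    · rw [← Finset.mul_sum, Finset.sum_const, Finset.card_univ, nsmul_eq_mul, mul_one, ← Nat.card_eq_fintype_card,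
        mul_comm]
    · intro χ _ hχ
      have h2 := Characters.Core.classInner_irr_ne χ.2 (isIrrCharacter_one (G := G)) (fun h0 => hχ (Subtype.ext h0))
      rw [Characters.Core.classInner_def] at h2
      have h3 : ∑ g : G, (χ : G → ℂ) g = 0 := by
        have h4 := (mul_eq_zero.1 h2).resolve_left (inv_ne_zero Characters.Core.card_ne_zero_complex)
        rw [← h4]
        refine Finset.sum_congr rfl fun g _ => ?_
        simp
      rw [← Finset.mul_sum, h3, mul_zero]
    · intro h0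
      exact absurd (Finset.mem_univ _) h0
  rw [Finset.sum_congr rfl fun g _ => hconst g, Finset.sum_const, Finset.card_univ, nsmul_eq_mul,
    ← Nat.card_eq_fintype_card] at h1
  have h2 := mul_left_cancel₀ Characters.Core.card_ne_zero_complex h1
  apply hv
  rcases h' 1 with h3 | h3
  · rw [h3] at h2
    have h4 : (0 : ℤ) = v (⟨fun _ => 1, isIrrCharacter_one⟩ : IrrCharacter G) := by exact_mod_cast h2
    rw [← h4]
    exact dvd_zero _
  · rw [h3] at h2
    have h4 : (p : ℤ) = v (⟨fun _ => 1, isIrrCharacter_one⟩ : IrrCharacter G) := by exact_mod_cast h2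
    rw [← h4]

end Cfsg.Agent.H261.LB
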